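import Groth.Prelude.Def_GLin
import Groth.Agent.HopfRep.Slice
import Mathlib.RingTheory.TensorProduct.Free
import Mathlib.RingTheory.HopfAlgebra.Convolution
import Mathlib.LinearAlgebra.Charpoly.ToMatrix

/-! A finite group scheme acting on an affine scheme: the translation automorphism,
characteristic polynomials, and integrality over the invariants. -/

set_option autoImplicit false

universe u

open TensorProduct WithConv Polynomial

noncomputable section

namespace LeadInvTh

variable {k : Type u} [Field k] {H : Type u} [CommRing H] [HopfAlgebra k H]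

section transl

variable {C : Type u} [CommRing C] [Algebra k C]

/-- right translation of `C ⊗ H` by a `C`-point -/
def transl (α : H →ₐ[k] C) : C ⊗[k] H →ₐ[C] C ⊗[k] H :=
  Algebra.TensorProduct.lift (Algebra.ofId C (C ⊗[k] H))
    ((Algebra.TensorProduct.map α (AlgHom.id k H)).comp (Bialgebra.comulAlgHom k H))
    (fun _ _ => mul_comm _ _)

lemma transl_tmul (α : H →ₐ[k] C) (c : C) (b : H) :
    transl α (c ⊗ₜ b) = (c ⊗ₜ[k] (1 : H)) *
      Algebra.TensorProduct.map α (AlgHom.id k H) (Coalgebra.comul (R := k) b) := by
  rw [transl, Algebra.TensorProduct.lift_tmul]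
  rfl

lemma transl_transl (α β : H →ₐ[k] C) (b : H) :
    transl α (transl β (1 ⊗ₜ b)) = transl (toConv β * toConv α).ofConv (1 ⊗ₜ b) := by
  simp only [transl_tmul, ← Algebra.TensorProduct.one_def, one_mul]
  let γ : H ⊗[k] H →ₗ[k] C := LinearMap.mul' k C ∘ₗ TensorProduct.map β.toLinearMap α.toLinearMap
  let G : (H ⊗[k] H) ⊗[k] H →ₗ[k] C ⊗[k] H := TensorProduct.map γ LinearMap.id
  have h1 : ∀ y : H ⊗[k] H, transl α (Algebra.TensorProduct.map β (AlgHom.id k H) y) =
      G ((TensorProduct.assoc k H H H).symm ((Coalgebra.comul (R := k) (A := H)).lTensor H y)) := by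
    intro y
    induction y with
    | zero => simp
    | add p q hp hq => simp only [map_add, hp, hq]
    | tmul a b =>
      rw [Algebra.TensorProduct.map_tmul, AlgHom.id_apply, transl_tmul, LinearMap.lTensor_tmul]
      generalize Coalgebra.comul (R := k) b = w
      induction w with
      | zero => simp
      | add p q hp hq => simp only [map_add, mul_add, TensorProduct.tmul_add, hp, hq]
      | tmul p q => simp [G, γ]
  have h2 : ∀ y : H ⊗[k] H, G ((Coalgebra.comul (R := k) (A := H)).rTensor H y) =
      Algebra.TensorProduct.map (toConv β * toConv α).ofConv (AlgHom.id k H) y := by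
    intro y
    induction y with
    | zero => simp
    | add p q hp hq => simp only [map_add, hp, hq]
    | tmul a b =>
      simp only [LinearMap.rTensor_tmul, G, TensorProduct.map_tmul, LinearMap.id_apply,
        Algebra.TensorProduct.map_tmul, AlgHom.id_apply]
      congr 1
  rw [h1, ← Coalgebra.coassoc_apply, LinearEquiv.symm_apply_apply, h2]

lemma transl_comp (α β : H →ₐ[k] C) :
    (transl α).comp (transl β) = transl (toConv β * toConv α).ofConv := by
  refine Algebra.TensorProduct.ext (Subsingleton.elim _ _) (AlgHom.ext fun b => ?_)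
  exact transl_transl α β b

lemma transl_one : transl (1 : WithConv (H →ₐ[k] C)).ofConv = AlgHom.id C (C ⊗[k] H) := by
  refine Algebra.TensorProduct.ext (Subsingleton.elim _ _) (AlgHom.ext fun b => ?_)
  show transl (1 : WithConv (H →ₐ[k] C)).ofConv (1 ⊗ₜ b) = 1 ⊗ₜ b
  rw [transl_tmul, ← Algebra.TensorProduct.one_def, one_mul]
  have h : ∀ y : H ⊗[k] H, Algebra.TensorProduct.map (1 : WithConv (H →ₐ[k] C)).ofConv (AlgHom.id k H) y =
      TensorProduct.map (Algebra.linearMap k C ∘ₗ Coalgebra.counit) LinearMap.id y := by
    intro y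
    induction y with
    | zero => simp
    | add p q hp hq => simp only [map_add, hp, hq]
    | tmul a b => rfl
  rw [h, show TensorProduct.map (Algebra.linearMap k C ∘ₗ Coalgebra.counit) (LinearMap.id : H →ₗ[k] H) =
    (Algebra.linearMap k C).rTensor H ∘ₗ (Coalgebra.counit (R := k) (A := H)).rTensor H from
      (LinearMap.rTensor_comp H _ _), LinearMap.comp_apply, Coalgebra.rTensor_counit_comul]
  simp

lemma conv_antipode_right (α : H →ₐ[k] C) :
    toConv α * toConv (α.comp (HopfAlgebra.antipodeAlgHom k H)) = 1 := by
  refine WithConv.ofConv_injective (AlgHom.ext fun x => ?_)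
  rw [AlgHom.convMul_apply]
  refine Eq.trans ?_ ((congrArg α (HopfAlgebra.mul_antipode_lTensor_comul_apply (R := k) x)).trans
    (α.commutes _))
  generalize Coalgebra.comul (R := k) x = w
  induction w with
  | zero => simp
  | add p q hp hq => simp only [map_add, hp, hq]
  | tmul p q => simp [HopfAlgebra.antipodeAlgHom_apply]

lemma conv_antipode_left (α : H →ₐ[k] C) :
    toConv (α.comp (HopfAlgebra.antipodeAlgHom k H)) * toConv α = 1 := by
  refine WithConv.ofConv_injective (AlgHom.ext fun x => ?_)
  rw [AlgHom.convMul_apply]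
  refine Eq.trans ?_ ((congrArg α (HopfAlgebra.mul_antipode_rTensor_comul_apply (R := k) x)).trans
    (α.commutes _))
  generalize Coalgebra.comul (R := k) x = w
  induction w with
  | zero => simp
  | add p q hp hq => simp only [map_add, hp, hq]
  | tmul p q => simp [HopfAlgebra.antipodeAlgHom_apply]

/-- translation as an automorphism -/
def translEquiv (α : H →ₐ[k] C) : C ⊗[k] H ≃ₐ[C] C ⊗[k] H :=
  AlgEquiv.ofAlgHom (transl α) (transl (α.comp (HopfAlgebra.antipodeAlgHom k H)))
    (by rw [transl_comp, conv_antipode_left, transl_one])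
    (by rw [transl_comp, conv_antipode_right, transl_one])

end transl

section charpoly

variable {ι : Type*} [Fintype ι] [DecidableEq ι] (b : Module.Basis ι k H)
variable {C C' : Type u} [CommRing C] [Algebra k C] [CommRing C'] [Algebra k C']

/-- the matrix of multiplication by `z` -/
def mat (C : Type u) [CommRing C] [Algebra k C] : C ⊗[k] H →ₐ[C] Matrix ι ι C :=
  Algebra.leftMulMatrix (Algebra.TensorProduct.basis C b)

lemma repr_map (φ : C →ₐ[k] C') (w : C ⊗[k] H) (i : ι) :
    (Algebra.TensorProduct.basis C' b).repr (Algebra.TensorProduct.map φ (AlgHom.id k H) w) i =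
      φ ((Algebra.TensorProduct.basis C b).repr w i) := by
  induction w with
  | zero => simp
  | add p q hp hq => simp [hp, hq]
  | tmul c h => simp

lemma mat_map (φ : C →ₐ[k] C') (z : C ⊗[k] H) :
    mat b C' (Algebra.TensorProduct.map φ (AlgHom.id k H) z) = (mat b C z).map φ := by
  ext i j
  rw [Matrix.map_apply, mat, mat, Algebra.leftMulMatrix_eq_repr_mul, Algebra.leftMulMatrix_eq_repr_mul,
    Algebra.TensorProduct.basis_apply, Algebra.TensorProduct.basis_apply,
    ← repr_map, map_mul (Algebra.TensorProduct.map φ (AlgHom.id k H)),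
    Algebra.TensorProduct.map_tmul, map_one, AlgHom.id_apply]

lemma charpoly_mat_equiv (e : C ⊗[k] H ≃ₐ[C] C ⊗[k] H) (z : C ⊗[k] H) :
    (mat b C (e z)).charpoly = (mat b C z).charpoly := by
  have hf : Module.Free C (C ⊗[k] H) := .of_basis (Algebra.TensorProduct.basis C b)
  have hfin : Module.Finite C (C ⊗[k] H) := .of_basis (Algebra.TensorProduct.basis C b)
  rw [mat, Algebra.leftMulMatrix_apply, Algebra.leftMulMatrix_apply, LinearMap.charpoly_toMatrix,
    LinearMap.charpoly_toMatrix, show Algebra.lmul C (C ⊗[k] H) (e z) =
      e.toLinearEquiv.conj (Algebra.lmul C (C ⊗[k] H) z) from LinearMap.ext fun y => by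
        simp [LinearEquiv.conj_apply], LinearEquiv.charpoly_conj]

end charpoly

section action

variable {R : Type u} [CommRing R] [Algebra k R] [HopfRep.Comod k H R] [GLin.IsCoactAlg k H R]

variable (k H R) in
/-- the coaction as an algebra map -/
def coactHom : R →ₐ[k] R ⊗[k] H :=
  AlgHom.ofLinearMap (HopfRep.Comod.coact (k := k) (A := H)) GLin.IsCoactAlg.coact_one
    GLin.IsCoactAlg.coact_mul

lemma coactHom_apply (x : R) : coactHom k H R x = HopfRep.Comod.coact (k := k) (A := H) x := rfl

variable {ι : Type*} [Fintype ι] [DecidableEq ι] (b : Module.Basis ι k H)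

/-- the norm polynomial of `x` -/
def normPoly (x : R) : R[X] := (mat b R (coactHom k H R x)).charpoly

lemma normPoly_invariant (x : R) :
    (normPoly b x).map (coactHom k H R).toRingHom =
      (normPoly b x).map (Algebra.TensorProduct.includeLeft (R := k) (S := k) (A := R) (B := H)).toRingHom := by
  rw [normPoly, ← Matrix.charpoly_map, ← Matrix.charpoly_map]
  change ((mat b R (coactHom k H R x)).map (coactHom k H R)).charpoly =
    ((mat b R (coactHom k H R x)).map
      (Algebra.TensorProduct.includeLeft (R := k) (S := k) (A := R) (B := H))).charpoly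
  rw [← mat_map, ← mat_map,
    ← charpoly_mat_equiv b (translEquiv (Algebra.TensorProduct.includeRight : H →ₐ[k] R ⊗[k] H))
      (Algebra.TensorProduct.map
        (Algebra.TensorProduct.includeLeft : R →ₐ[k] R ⊗[k] H) (AlgHom.id k H) (coactHom k H R x))]
  congr 2
  have h1 : ∀ y : R ⊗[k] H, Algebra.TensorProduct.map (coactHom k H R) (AlgHom.id k H) y =
      (HopfRep.Comod.coact (k := k) (A := H) (V := R)).rTensor H y := by
    intro y
    induction y with
    | zero => simp
    | add p q hp hq => simp only [map_add, hp, hq]
    | tmul a c => rfl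
  have h2 : ∀ y : R ⊗[k] H, translEquiv (Algebra.TensorProduct.includeRight : H →ₐ[k] R ⊗[k] H)
      (Algebra.TensorProduct.map
        (Algebra.TensorProduct.includeLeft : R →ₐ[k] R ⊗[k] H) (AlgHom.id k H) y) =
      (TensorProduct.assoc k R H H).symm ((Coalgebra.comul (R := k) (A := H)).lTensor R y) := by
    intro y
    induction y with
    | zero => simp
    | add p q hp hq => simp only [map_add, hp, hq]
    | tmul a c =>
      show transl _ ((a ⊗ₜ[k] (1 : H)) ⊗ₜ[k] c) = _
      rw [transl_tmul, LinearMap.lTensor_tmul]
      generalize Coalgebra.comul (R := k) c = w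
      induction w with
      | zero => simp
      | add p q hp hq => simp only [map_add, mul_add, TensorProduct.tmul_add, hp, hq]
      | tmul p q => simp
  rw [h1, h2, coactHom_apply, ← Groth.Agent.HopfRep.Slice.coassoc_apply, LinearEquiv.symm_apply_apply]

lemma normPoly_coeff (x : R) (n : ℕ) : (normPoly b x).coeff n ∈ GLin.invariants k H R := by
  rw [GLin.mem_invariants_iff]
  have := congrArg (fun P => P.coeff n) (normPoly_invariant b x)
  simp only [coeff_map] at this
  exact this

lemma aeval_normPoly (x : R) : aeval x (normPoly b x) = 0 := by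
  have h1 : aeval (coactHom k H R x) (normPoly b x) = 0 := by
    refine Algebra.leftMulMatrix_injective (Algebra.TensorProduct.basis R b) ?_
    rw [map_zero, ← aeval_algHom_apply]
    exact Matrix.aeval_self_charpoly _
  let e : R ⊗[k] H →ₐ[R] R :=
    Algebra.TensorProduct.lift (AlgHom.id R R) ((Algebra.ofId k R).comp (Bialgebra.counitAlgHom k H))
      (fun _ _ => mul_comm _ _)
  have h2 : e (coactHom k H R x) = x := by
    have h3 := congrArg (TensorProduct.rid k R)
      (LinearMap.congr_fun (HopfRep.Comod.counit_comp (k := k) (A := H) (V := R)) x)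
    simp only [LinearMap.comp_apply, LinearMap.flip_apply, TensorProduct.mk_apply, TensorProduct.rid_tmul,
      one_smul] at h3
    conv_rhs => rw [← h3]
    rw [coactHom_apply]
    generalize HopfRep.Comod.coact (k := k) (A := H) x = w
    induction w with
    | zero => simp
    | add p q hp hq => simp only [map_add, hp, hq]
    | tmul p q => simp [e, Algebra.smul_def, mul_comm p]
  rw [← h2, aeval_algHom_apply, h2, h1, map_zero]

include b in
lemma isIntegral_invariants (x : R) : IsIntegral (GLin.invariants k H R) x := by
  refine ⟨(normPoly b x).toSubring (GLin.invariants k H R).toSubring ?_, ?_, ?_⟩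
  · intro c hc
    obtain ⟨n, -, rfl⟩ := Polynomial.mem_coeffs_iff.1 hc
    exact normPoly_coeff b x n
  · rw [Polynomial.monic_toSubring]
    exact Matrix.charpoly_monic _
  · have h := aeval_normPoly b x
    rw [coe_aeval_eq_eval] at h
    rw [eval₂_eq_eval_map]
    refine Eq.trans ?_ h
    congr 1
    exact Polynomial.map_toSubring (normPoly b x) (GLin.invariants k H R).toSubring _

theorem isIntegral_invariants' [Module.Finite k H] : Algebra.IsIntegral (GLin.invariants k H R) R :=
  ⟨isIntegral_invariants (Module.Free.chooseBasis k H)⟩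

end action

end LeadInvTh
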