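import Groth.Agent.Lead.InvTh.Fibres
import Groth.Agent.IdealDepth.Serre
import Groth.Agent.IdealDepth.Localization
import Groth.Agent.HopfRep.Reynolds
import Mathlib.RingTheory.Ideal.KrullsHeightTheorem
import Mathlib.RingTheory.IntegralClosure.IsIntegralClosure.Basic

/-! Serre conditions descend to the invariants. -/

set_option autoImplicit false

universe u v w

open TensorProduct RingTheory.Sequence
open scoped Pointwise

noncomputable section

namespace LeadInvTh

section retract

variable {A : Type u} [CommRing A]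

lemma isWeaklyRegular_of_retract : ∀ (rs : List A) {M : Type v} [AddCommGroup M] [Module A M]
    {N : Type v} [AddCommGroup N] [Module A N] (i : N →ₗ[A] M) (p : M →ₗ[A] N),
    (∀ x, p (i x) = x) → IsWeaklyRegular M rs → IsWeaklyRegular N rs
  | [], _, _, _, N, _, _, _, _, _, _ => IsWeaklyRegular.nil A N
  | x :: rs, M, _, _, N, _, _, i, p, h, hr => by
    rw [isWeaklyRegular_cons_iff] at hr ⊢
    refine ⟨fun a b hab => ?_, isWeaklyRegular_of_retract rs (QuotSMulTop.map x i) (QuotSMulTop.map x p) ?_ hr.2⟩
    · rw [← h a, ← h b]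
      refine congrArg p (hr.1 ?_)
      simpa only [← map_smul] using congrArg i hab
    · intro y
      obtain ⟨y, rfl⟩ := Submodule.Quotient.mk_surjective _ y
      simp [h]

end retract

variable {k : Type u} [Field k] {H : Type u} [CommRing H] [HopfAlgebra k H] [Module.Finite k H]
variable {R : Type u} [CommRing R] [Algebra k R] [Algebra.FiniteType k R] [HopfRep.Comod k H R]
  [GLin.IsCoactAlg k H R]
variable {β : H →ₗ[k] k}

open Groth.Agent.HopfRep

local notation "𝔸" => GLin.invariants k H R

/-- the Reynolds retraction -/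
def reynoldsA (hβ : Integral.IsIntegral k H β) : R →ₗ[𝔸] 𝔸 where
  toFun r := ⟨Slice.slice k R β r, Reynolds.slice_mem_invariants hβ r⟩
  map_add' a b := Subtype.ext (map_add _ a b)
  map_smul' a r := Subtype.ext (Reynolds.slice_mul a.2 β r)

lemma reynoldsA_section (hβ : Integral.IsIntegral k H β) (a : 𝔸) :
    reynoldsA hβ (Algebra.linearMap 𝔸 R a) = a :=
  Subtype.ext (Reynolds.slice_invariant hβ a.2)

instance finite_over_invariants : Module.Finite 𝔸 R := by
  haveI := isIntegral_invariants' (k := k) (H := H) (R := R)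
  haveI : Algebra.FiniteType 𝔸 R := Algebra.FiniteType.of_restrictScalars_finiteType k 𝔸 R
  exact Algebra.IsIntegral.finite

variable (hβ : Integral.IsIntegral k H β)
include hβ

theorem supportDim_localized (p : Ideal 𝔸) [p.IsPrime] :
    Module.supportDim (Localization.AtPrime p) (LocalizedModule p.primeCompl R) =
      ringKrullDim (Localization.AtPrime p) := by
  refine le_antisymm (Module.supportDim_le_ringKrullDim _ _) ?_
  rw [← Module.supportDim_self_eq_ringKrullDim,
    ← Module.supportDim_eq_of_equiv (Groth.Agent.IdealDepth.Serre.selfEquiv 𝔸 p)]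
  refine Module.supportDim_le_of_injective (LocalizedModule.map p.primeCompl (Algebra.linearMap 𝔸 R))
    (LocalizedModule.map_injective p.primeCompl _ Subtype.val_injective)

theorem depth_bound (r : ℕ) (hR : LocCoh.HasSk r R R) (p : Ideal 𝔸) [p.IsPrime] :
    min (r : ℕ∞) p.height ≤ LocCoh.depth (Localization.AtPrime p) (LocalizedModule p.primeCompl R) ∧
    min (r : ℕ∞) p.height ≤ LocCoh.depth (Localization.AtPrime p) (LocalizedModule p.primeCompl 𝔸) := by
  haveI : IsNoetherianRing R := Algebra.FiniteType.isNoetherianRing k R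
  haveI : IsNoetherianRing 𝔸 := Reynolds.isNoetherianRing_invariants hβ
  rw [Groth.Agent.IdealDepth.Serre.hasSk_self_iff] at hR
  have h1 : min (r : ℕ∞) p.height ≤ LocCoh.idealDepth p R := by
    rw [Groth.Agent.IdealDepth.idealDepth_map (S := R), Groth.Agent.IdealDepth.idealDepth_eq_iInf]
    refine le_iInf₂ fun Q hQ => ?_
    rw [Groth.Agent.IdealDepth.Serre.depth_self]
    refine le_trans ?_ (hR Q.asIdeal)
    refine min_le_min le_rfl ?_
    rw [height_eq_height_under (k := k) (H := H) Q.asIdeal]
    exact Ideal.height_mono (Ideal.map_le_iff_le_comap.1 hQ)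
  obtain ⟨n, hn⟩ := ENat.ne_top_iff_exists.1
    (ne_top_of_le_ne_top (ENat.coe_ne_top r) (min_le_left (r : ℕ∞) p.height))
  rw [← hn] at h1 ⊢
  rw [Groth.Agent.IdealDepth.idealDepth_map (S := R)] at h1
  obtain ⟨rs, hlen, hmem, hw⟩ := Groth.Agent.IdealDepth.exists_list p n R h1
  rw [isWeaklyRegular_map_algebraMap_iff] at hw
  rw [← hlen]
  exact ⟨Groth.Agent.IdealDepth.len_le_depth ⟨hw, hmem⟩ p le_rfl,
    Groth.Agent.IdealDepth.len_le_depth
      ⟨isWeaklyRegular_of_retract rs (Algebra.linearMap 𝔸 R) (reynoldsA hβ) (reynoldsA_section hβ) hw, hmem⟩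
      p le_rfl⟩

theorem hasSk_descends (r : ℕ) (hR : LocCoh.HasSk r R R) :
    LocCoh.HasSk r 𝔸 R ∧ LocCoh.HasSk r 𝔸 𝔸 := by
  constructor
  · intro p hp
    rw [supportDim_localized hβ, IsLocalization.AtPrime.ringKrullDim_eq_height p,
      show ((r : ℕ) : WithBot ℕ∞) = ((r : ℕ∞) : WithBot ℕ∞) from rfl, ← WithBot.coe_min, WithBot.coe_le_coe]
    exact (depth_bound hβ r hR p).1
  · rw [Groth.Agent.IdealDepth.Serre.hasSk_self_iff]
    intro p hp
    rw [← Groth.Agent.IdealDepth.Serre.depth_self]
    exact (depth_bound hβ r hR p).2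

theorem cm_descends (hR : LocCoh.IsCohenMacaulayRing R) :
    LocCoh.IsCohenMacaulayRing 𝔸 ∧ ∀ (p : Ideal 𝔸) [p.IsPrime],
      LocCoh.IsCohenMacaulayModule (Localization.AtPrime p) (LocalizedModule p.primeCompl R) ∧
        Module.supportDim (Localization.AtPrime p) (LocalizedModule p.primeCompl R) =
          ringKrullDim (Localization.AtPrime p) := by
  haveI : IsNoetherianRing 𝔸 := Reynolds.isNoetherianRing_invariants hβ
  have hS : ∀ r : ℕ, LocCoh.HasSk r R R := by
    intro r
    rw [Groth.Agent.IdealDepth.Serre.hasSk_self_iff]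
    intro q hq
    refine le_trans (min_le_right _ _) (le_of_eq ?_)
    have := (hR.isCohenMacaulayLocalRing_localization q).supportDim_eq_depth
    rw [Module.supportDim_self_eq_ringKrullDim, IsLocalization.AtPrime.ringKrullDim_eq_height q,
      WithBot.coe_inj] at this
    exact this
  have key : ∀ (p : Ideal 𝔸) [p.IsPrime],
      p.height ≤ LocCoh.depth (Localization.AtPrime p) (LocalizedModule p.primeCompl R) ∧
      p.height ≤ LocCoh.depth (Localization.AtPrime p) (LocalizedModule p.primeCompl 𝔸) := by
    intro p hp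
    obtain ⟨n, hn⟩ := ENat.ne_top_iff_exists.1 (Ideal.height_ne_top (I := p) hp.ne_top)
    have := depth_bound hβ n (hS n) p
    rw [← hn] at this ⊢; rwa [min_self] at this
    
  refine ⟨{ isCohenMacaulayLocalRing_localization := fun p hp => { supportDim_eq_depth := ?_ } },
    fun p hp => ⟨?_, supportDim_localized hβ p⟩⟩
  · rw [Module.supportDim_self_eq_ringKrullDim, ← Groth.Agent.IdealDepth.Serre.depth_self 𝔸 p]
    refine le_antisymm ?_ ?_
    · rw [IsLocalization.AtPrime.ringKrullDim_eq_height p, WithBot.coe_le_coe]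
      exact (key p).2
    · rw [Groth.Agent.IdealDepth.Serre.depth_self 𝔸 p, ← Module.supportDim_self_eq_ringKrullDim]
      exact Groth.Agent.IdealDepth.depth_le_supportDim
  · haveI : Nontrivial (LocalizedModule p.primeCompl R) :=
      (LocalizedModule.map_injective p.primeCompl (Algebra.linearMap 𝔸 R) Subtype.val_injective).nontrivial
    refine le_antisymm ?_ Groth.Agent.IdealDepth.depth_le_supportDim
    rw [supportDim_localized hβ p, IsLocalization.AtPrime.ringKrullDim_eq_height p, WithBot.coe_le_coe]
    exact (key p).1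

end LeadInvTh
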