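import Groth.Agent.Lead.InvTh.Coact
import Groth.Agent.HopfRep.Corep
import Mathlib.RingTheory.Ideal.GoingDown
import Mathlib.RingTheory.Ideal.HasGoingUp
import Mathlib.RingTheory.Ideal.Height
import Mathlib.RingTheory.LocalRing.ResidueField.Ideal
import Mathlib.RingTheory.Artinian.Module

/-! Transitivity on fibres and heights over the invariants. -/

set_option autoImplicit false

universe u

open TensorProduct

noncomputable section

namespace LeadInvTh

section heights

variable {A R : Type u} [CommRing A] [CommRing R] [Algebra A R]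

theorem height_le_under [Algebra.IsIntegral A R] (Q : Ideal R) [Q.IsPrime] :
    Q.height ≤ (Q.under A).height := by
  let x : PrimeSpectrum R := ⟨Q, inferInstance⟩
  have h := Order.height_le_height_apply_of_strictMono (PrimeSpectrum.comap (algebraMap A R))
    (fun a b hab => Ideal.IsIntegral.comap_lt_comap (R := A) hab) x
  rw [show Q.height = Order.height x from PrimeSpectrum.height_eq_orderHeight x,
    show (Q.under A).height = Order.height (PrimeSpectrum.comap (algebraMap A R) x) from
      PrimeSpectrum.height_eq_orderHeight (PrimeSpectrum.comap (algebraMap A R) x)]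
  exact h

theorem under_le_height [Algebra.HasGoingDown A R] (Q : Ideal R) [Q.IsPrime] :
    (Q.under A).height ≤ Q.height := by
  rw [show (Q.under A).height = Order.height (⟨Q.under A, inferInstance⟩ : PrimeSpectrum A) from
      PrimeSpectrum.height_eq_orderHeight ⟨Q.under A, inferInstance⟩,
    show Q.height = Order.height (⟨Q, inferInstance⟩ : PrimeSpectrum R) from
      PrimeSpectrum.height_eq_orderHeight ⟨Q, inferInstance⟩]
  refine Order.height_le fun l hl => ?_
  haveI : Q.LiesOver l.last.asIdeal := ⟨by rw [hl]⟩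
  obtain ⟨L, hL, hlast, -⟩ := Ideal.exists_ltSeries_of_hasGoingDown l Q
  rw [← hL]
  exact Order.length_le_height hlast.le

theorem height_eq_of_transitive [Algebra.IsIntegral A R] (hinj : Function.Injective (algebraMap A R))
    (htrans : ∀ q q' : Ideal R, q.IsPrime → q'.IsPrime → q.under A = q'.under A → q.height = q'.height)
    (q : Ideal R) [q.IsPrime] : q.height = (q.under A).height := by
  refine le_antisymm (height_le_under q) ?_
  haveI := Algebra.HasGoingUp.of_isIntegral (R := A) (S := R)
  rw [show (q.under A).height = Order.height (⟨q.under A, inferInstance⟩ : PrimeSpectrum A) from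
      PrimeSpectrum.height_eq_orderHeight ⟨q.under A, inferInstance⟩]
  refine Order.height_le fun l hl => ?_
  obtain ⟨P, -, hP, hPl⟩ := Ideal.exists_ideal_over_prime_of_isIntegral (S := R) l.head.asIdeal ⊥
    (by rw [← RingHom.ker_eq_comap_bot, (RingHom.injective_iff_ker_eq_bot _).1 hinj]; exact bot_le)
  haveI := hP
  haveI : P.LiesOver l.head.asIdeal := ⟨hPl.symm⟩
  obtain ⟨L, hL, -, hmap⟩ := Ideal.exists_ltSeries_of_hasGoingUp l P
  have hlast : PrimeSpectrum.comap (algebraMap A R) L.last = l.last := by
    have hne : L.toList ≠ [] := RelSeries.toList_ne_nil L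
    have h1 : (L.toList.map (PrimeSpectrum.comap (algebraMap A R))).getLast (by simpa using hne) =
        l.toList.getLast (RelSeries.toList_ne_nil l) := by
      simp only [hmap]
    rwa [List.getLast_map, RelSeries.getLast_toList, RelSeries.getLast_toList] at h1
  rw [← hL, htrans q L.last.asIdeal inferInstance inferInstance
    ((congrArg PrimeSpectrum.asIdeal hlast).trans (by rw [hl])).symm,
    PrimeSpectrum.height_eq_orderHeight]
  exact Order.length_le_height le_rfl

end heights

section action

variable {k : Type u} [Field k] {H : Type u} [CommRing H] [HopfAlgebra k H] [Module.Finite k H]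
variable {R : Type u} [CommRing R] [Algebra k R] [HopfRep.Comod k H R] [GLin.IsCoactAlg k H R]

variable (k H R) in
/-- `r ⊗ h ↦ ρ(r) (1 ⊗ h)` -/
def theta : R ⊗[k] H →ₐ[k] R ⊗[k] H :=
  Algebra.TensorProduct.productMap (coactHom k H R) Algebra.TensorProduct.includeRight

variable (k H R) in
/-- the inverse of `theta` -/
def theta' : R ⊗[k] H →ₐ[k] R ⊗[k] H :=
  Algebra.TensorProduct.productMap
    ((Algebra.TensorProduct.map (AlgHom.id k R) (HopfAlgebra.antipodeAlgHom k H)).comp (coactHom k H R))
    Algebra.TensorProduct.includeRight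

lemma counit_apply (x : R) :
    (Coalgebra.counit (R := k) (A := H)).lTensor R (HopfRep.Comod.coact (k := k) (A := H) x) = x ⊗ₜ 1 := by
  have h3 := LinearMap.congr_fun (HopfRep.Comod.counit_comp (k := k) (A := H) (V := R)) x
  simpa using h3

lemma theta'_coact (x : R) : theta' k H R (coactHom k H R x) = x ⊗ₜ[k] 1 := by
  let m : H ⊗[k] H →ₗ[k] H := LinearMap.mul' k H ∘ₗ (HopfAlgebraStruct.antipode (R := k)).rTensor H
  have h1 : ∀ y : R ⊗[k] H, theta' k H R y =
      m.lTensor R (TensorProduct.assoc k R H H
        ((HopfRep.Comod.coact (k := k) (A := H) (V := R)).rTensor H y)) := by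
    intro y
    induction y with
    | zero => simp
    | add p q hp hq => simp only [map_add, hp, hq]
    | tmul p q =>
      simp only [theta', Algebra.TensorProduct.productMap_apply_tmul, AlgHom.comp_apply, coactHom_apply,
        LinearMap.rTensor_tmul, Algebra.TensorProduct.includeRight_apply]
      generalize HopfRep.Comod.coact (k := k) (A := H) p = w
      induction w with
      | zero => simp
      | add p q hp hq => simp only [map_add, TensorProduct.add_tmul, add_mul, hp, hq]
      | tmul s h => simp [m, HopfAlgebra.antipodeAlgHom_apply]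
  rw [h1, coactHom_apply, Groth.Agent.HopfRep.Slice.coassoc_apply, ← LinearMap.lTensor_comp_apply,
    show m ∘ₗ Coalgebra.comul (R := k) (A := H) = Algebra.linearMap k H ∘ₗ Coalgebra.counit from
      HopfAlgebra.mul_antipode_rTensor_comul, LinearMap.lTensor_comp_apply, counit_apply]
  simp

lemma theta_coact (x : R) :
    theta k H R (Algebra.TensorProduct.map (AlgHom.id k R) (HopfAlgebra.antipodeAlgHom k H)
      (coactHom k H R x)) = x ⊗ₜ[k] 1 := by
  let m : H ⊗[k] H →ₗ[k] H := LinearMap.mul' k H ∘ₗ (HopfAlgebraStruct.antipode (R := k)).lTensor H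
  have h1 : ∀ y : R ⊗[k] H,
      theta k H R (Algebra.TensorProduct.map (AlgHom.id k R) (HopfAlgebra.antipodeAlgHom k H) y) =
      m.lTensor R (TensorProduct.assoc k R H H
        ((HopfRep.Comod.coact (k := k) (A := H) (V := R)).rTensor H y)) := by
    intro y
    induction y with
    | zero => simp
    | add p q hp hq => simp only [map_add, hp, hq]
    | tmul p q =>
      simp only [theta, Algebra.TensorProduct.map_tmul, AlgHom.id_apply,
        Algebra.TensorProduct.productMap_apply_tmul, coactHom_apply, LinearMap.rTensor_tmul,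
        Algebra.TensorProduct.includeRight_apply]
      generalize HopfRep.Comod.coact (k := k) (A := H) p = w
      induction w with
      | zero => simp
      | add p q hp hq => simp only [map_add, TensorProduct.add_tmul, add_mul, hp, hq]
      | tmul s h => simp [m, HopfAlgebra.antipodeAlgHom_apply]
  rw [h1, coactHom_apply, Groth.Agent.HopfRep.Slice.coassoc_apply, ← LinearMap.lTensor_comp_apply,
    show m ∘ₗ Coalgebra.comul (R := k) (A := H) = Algebra.linearMap k H ∘ₗ Coalgebra.counit from
      HopfAlgebra.mul_antipode_lTensor_comul, LinearMap.lTensor_comp_apply, counit_apply]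
  simp

variable (k H R) in
/-- the shear automorphism -/
def thetaEquiv : R ⊗[k] H ≃ₐ[k] R ⊗[k] H :=
  AlgEquiv.ofAlgHom (theta k H R) (theta' k H R)
    (Algebra.TensorProduct.ext (AlgHom.ext fun x => by
      show theta k H R (theta' k H R (x ⊗ₜ[k] 1)) = x ⊗ₜ[k] 1
      rw [show theta' k H R (x ⊗ₜ[k] 1) = Algebra.TensorProduct.map (AlgHom.id k R)
        (HopfAlgebra.antipodeAlgHom k H) (coactHom k H R x) by
          simp [theta', ← Algebra.TensorProduct.one_def], theta_coact])
      (AlgHom.ext fun h => by simp [theta, theta', ← Algebra.TensorProduct.one_def]))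
    (Algebra.TensorProduct.ext (AlgHom.ext fun x => by
      show theta' k H R (theta k H R (x ⊗ₜ[k] 1)) = x ⊗ₜ[k] 1
      rw [show theta k H R (x ⊗ₜ[k] 1) = coactHom k H R x by
          simp [theta, ← Algebra.TensorProduct.one_def], theta'_coact])
      (AlgHom.ext fun h => by simp [theta, theta', ← Algebra.TensorProduct.one_def]))

lemma theta_inl (x : R) : theta k H R (x ⊗ₜ[k] 1) = coactHom k H R x := by
  simp [theta, ← Algebra.TensorProduct.one_def]

/-- heights in `R ⊗ H` are those in `R` -/
lemma height_tensor (Q : Ideal (R ⊗[k] H)) [Q.IsPrime] : Q.height = (Q.under R).height :=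
  le_antisymm (height_le_under Q) (under_le_height Q)

/-- `R`'s points with the same invariant part differ by a point of the group -/
theorem exists_prime_over (q q' : Ideal R) [q.IsPrime] [q'.IsPrime]
    (h : q.under (GLin.invariants k H R) = q'.under (GLin.invariants k H R)) :
    ∃ Q : Ideal (R ⊗[k] H), Q.IsPrime ∧ Q.comap (algebraMap R (R ⊗[k] H)) = q ∧
      Q.comap (coactHom k H R).toRingHom = q' := by
  classical
  let b := Module.Free.chooseBasis k H
  let φ : R →ₐ[k] q.ResidueField := IsScalarTower.toAlgHom k R q.ResidueField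
  let F : R ⊗[k] H →ₐ[k] q.ResidueField ⊗[k] H := Algebra.TensorProduct.map φ (AlgHom.id k H)
  haveI : IsArtinianRing (q.ResidueField ⊗[k] H) := IsArtinianRing.of_finite q.ResidueField _
  have hF : ∀ 𝔪 : Ideal (q.ResidueField ⊗[k] H), 𝔪.IsPrime →
      (𝔪.comap F.toRingHom).comap (algebraMap R (R ⊗[k] H)) = q := by
    intro 𝔪 h𝔪
    have hcomm : ∀ x : R, F (algebraMap R (R ⊗[k] H) x) =
        algebraMap q.ResidueField (q.ResidueField ⊗[k] H) (algebraMap R q.ResidueField x) := by
      intro x
      simp [F, φ, Algebra.TensorProduct.algebraMap_apply]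
    have hbot : 𝔪.comap (algebraMap q.ResidueField (q.ResidueField ⊗[k] H)) = ⊥ :=
      (Ideal.eq_bot_or_top _).resolve_right (Ideal.IsPrime.ne_top inferInstance)
    ext x
    simp only [Ideal.mem_comap, AlgHom.toRingHom_eq_coe, RingHom.coe_coe, hcomm]
    rw [← Ideal.mem_comap, hbot, Ideal.mem_bot, ← RingHom.mem_ker, Ideal.ker_algebraMap_residueField]
  let S : Set (Ideal (q.ResidueField ⊗[k] H)) := {I | I.IsMaximal}
  have hS : S.Finite := IsArtinianRing.setOf_isMaximal_finite _
  have hsub : (q' : Set R) ⊆ ⋃ 𝔪 ∈ (hS.toFinset : Set (Ideal (q.ResidueField ⊗[k] H))),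
      (((𝔪.comap F.toRingHom).comap (coactHom k H R).toRingHom : Ideal R) : Set R) := by
    intro x hx
    let P := normPoly b x
    have hc : P.coeff 0 ∈ q := by
      have h1 : P.coeff 0 ∈ q' := by
        have h2 := aeval_normPoly b x
        rw [show normPoly b x = P from rfl, ← Polynomial.X_mul_divX_add P, map_add, map_mul, Polynomial.aeval_X, Polynomial.aeval_C,
          Algebra.algebraMap_self_apply] at h2
        rw [show P.coeff 0 = -(x * (Polynomial.aeval x) P.divX) by linear_combination h2]
        exact q'.neg_mem (q'.mul_mem_right _ hx)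
      have h3 : (⟨P.coeff 0, normPoly_coeff b x 0⟩ : GLin.invariants k H R) ∈ q'.under _ := h1
      rw [← h] at h3
      exact h3
    have hdet : (mat b q.ResidueField (F (coactHom k H R x))).det = 0 := by
      rw [mat_map, show ((mat b R (coactHom k H R x)).map φ).det = φ (mat b R (coactHom k H R x)).det from
        (AlgHom.map_det φ _).symm, Matrix.det_eq_sign_charpoly_coeff, map_mul,
        show φ (Polynomial.coeff (mat b R (coactHom k H R x)).charpoly 0) = 0 from
          RingHom.mem_ker.1 ((Ideal.ker_algebraMap_residueField q).ge hc), mul_zero]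
    have hnu : ¬ IsUnit (F (coactHom k H R x)) := fun hu =>
      ((Matrix.isUnit_iff_isUnit_det _).1 (hu.map (mat b q.ResidueField))).ne_zero hdet
    obtain ⟨𝔪, h𝔪, hmem⟩ := exists_max_ideal_of_mem_nonunits hnu
    exact Set.mem_biUnion (x := 𝔪) (by simpa [S] using h𝔪) hmem
  obtain ⟨𝔪, h𝔪, hle⟩ := (Ideal.subset_union_prime ⊥ ⊥ (fun i hi _ _ => by
    haveI : i.IsMaximal := hS.mem_toFinset.1 hi
    exact inferInstance)).1 hsub
  haveI : 𝔪.IsMaximal := hS.mem_toFinset.1 h𝔪
  refine ⟨𝔪.comap F.toRingHom, inferInstance, hF 𝔪 inferInstance, ?_⟩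
  set q'' : Ideal R := (𝔪.comap F.toRingHom).comap (coactHom k H R).toRingHom with hq''
  haveI := isIntegral_invariants' (k := k) (H := H) (R := R)
  by_contra hne
  have hlt : q' < q'' := lt_of_le_of_ne hle (Ne.symm hne)
  have := Ideal.IsIntegral.comap_lt_comap (R := GLin.invariants k H R) hlt
  refine this.ne ?_
  ext a
  have ha : (a : R) ∈ q'' ↔ (a : R) ∈ q := by
    rw [hq'', Ideal.mem_comap,
      show (coactHom k H R).toRingHom (a : R) = algebraMap R (R ⊗[k] H) (a : R) from
        (GLin.mem_invariants_iff k H R (a : R)).1 a.2, ← Ideal.mem_comap, hF 𝔪 inferInstance]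
  change (a : R) ∈ q' ↔ (a : R) ∈ q''
  rw [ha]
  exact (SetLike.ext_iff.1 h a).symm

theorem height_eq_height_under (q : Ideal R) [q.IsPrime] :
    q.height = (q.under (GLin.invariants k H R)).height := by
  haveI := isIntegral_invariants' (k := k) (H := H) (R := R)
  refine height_eq_of_transitive Subtype.val_injective (fun q₁ q₂ h1 h2 h => ?_) q
  obtain ⟨Q, hQ, hq1, hq2⟩ := exists_prime_over q₁ q₂ h
  haveI := hQ
  let e : R ⊗[k] H ≃+* R ⊗[k] H := (thetaEquiv k H R).toRingEquiv
  have h3 : (Q.comap (e : R ⊗[k] H →+* R ⊗[k] H)).under R = q₂ := by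
    rw [← hq2]
    ext x
    change theta k H R (x ⊗ₜ[k] 1) ∈ Q ↔ coactHom k H R x ∈ Q
    rw [theta_inl]
  have h4 : Q.under R = q₁ := hq1
  rw [← h4, ← h3, ← height_tensor, ← height_tensor]
  exact (RingEquiv.height_comap e Q).symm

end action

end LeadInvTh
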